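import Mathlib
import Cfsg.Prelude.Def_GeometricClasses
import Cfsg.Agent.Lib.Helper27.ASC.Defs
import Cfsg.Agent.Lib.helper23.ASCO.Defs
import Cfsg.Agent.Lib.Helper1.ASGCLIF3

/-!
# Project ASO (leader: helper25) : S5673, the subgroup structure of `Ω_(2m+1)(q)`, `q` odd, `m ≥ 3`
(Aschbacher's theorem for the odd-dimensional orthogonal groups, containment form)

Shared vocabulary.  The eight disjuncts of `Cfsg.Geo.InOrthogonalOddClass` are restated for an arbitrary index type `ι`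
and an arbitrary form `Q : (ι → F) → F` (`OTS`, `OND`, `ODec`, `OFrame`, `OField`, `OTensor`, `OSub`, `OWreath`;
`InOddClass d Q M` is their disjunction, `d` = the dimension that the degree of a class-3 field must avoid), so that the
analysis can be done over the index type `Fin n` and transported.  `OClass d Q H` : `H` lies in a member.
`oadj Q M` : the adjoint of the matrix `M` for the polar form of `Q`.
-/

set_option autoImplicit false

namespace Cfsg.Agent.Lib.Helper25.ASO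

open Cfsg Cfsg.Geo Cfsg.Agent.Lib.Helper27.ASC
open scoped MatrixGroups Matrix Kronecker

variable {ι : Type} [Fintype ι] [DecidableEq ι] {F : Type*} [Field F]

/-- class 1, totally singular subspaces -/
def OTS (Q : (ι → F) → F) (M : Subgroup (GL ι F)) : Prop :=
  ∃ W : Submodule F (ι → F), W ≠ ⊥ ∧ IsTotallySingularQuad Q W ∧ M = subspaceStabilizer W ⊓ isometryGroup F Q

/-- class 1, non-degenerate subspaces -/
def OND (Q : (ι → F) → F) (M : Subgroup (GL ι F)) : Prop :=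
  ∃ W : Submodule F (ι → F), W ≠ ⊥ ∧ W ≠ ⊤ ∧ IsNondegenerateOn (QuadraticMap.polar Q) W ∧
    M = subspaceStabilizer W ⊓ isometryGroup F Q

/-- class 2, blocks of dimension `k > 1` -/
def ODec (Q : (ι → F) → F) (M : Subgroup (GL ι F)) : Prop :=
  ∃ (t k : ℕ) (D : Fin t → Submodule F (ι → F)), 1 < k ∧ IsOrthogonalMDecomposition Q k D ∧
    M = decompositionStabilizer D ⊓ isometryGroup F Q

/-- class 2, frames of lines over a prime field -/
def OFrame [Fintype F] (Q : (ι → F) → F) (M : Subgroup (GL ι F)) : Prop :=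
  ∃ (t : ℕ) (D : Fin t → Submodule F (ι → F)), (Fintype.card F).Prime ∧ IsOrthogonalMDecomposition Q 1 D ∧
    M = decompositionStabilizer D ⊓ isometryGroup F Q

/-- class 3, self-adjoint extension fields of prime degree `r ≠ d` -/
def OField (d : ℕ) (Q : (ι → F) → F) (M : Subgroup (GL ι F)) : Prop :=
  ∃ (r : ℕ) (K : Subalgebra F (Matrix ι ι F)), r.Prime ∧ d ≠ r ∧ IsFieldSubalgebra r K ∧
    IsSelfAdjointFor (QuadraticMap.polar Q) K ∧ M = subalgebraNormalizer K ⊓ isometryGroup F Q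

/-- class 4, tensor decompositions `3 ≤ n₁ < n₂` -/
def OTensor (Q : (ι → F) → F) (M : Subgroup (GL ι F)) : Prop :=
  ∃ (n₁ n₂ : ℕ) (e : ι ≃ Fin n₁ × Fin n₂) (P : GL ι F)
    (f₁ : (Fin n₁ → F) → (Fin n₁ → F) → F) (f₂ : (Fin n₂ → F) → (Fin n₂ → F) → F),
    3 ≤ n₁ ∧ n₁ < n₂ ∧ IsSymmetricForm f₁ ∧ IsSymmetricForm f₂ ∧
    IsTensorFormStructure id (QuadraticMap.polar Q) f₁ f₂ e P ∧
    M = tensorProductSubgroup n₁ n₂ e P ⊓ isometryGroup F Q

/-- class 5, subfield groups -/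
def OSub [Fintype F] (Q : (ι → F) → F) (M : Subgroup (GL ι F)) : Prop :=
  ∃ (F₀ : Subfield F) (r : ℕ) (P : GL ι F), r.Prime ∧ Fintype.card F = Nat.card F₀ ^ r ∧
    IsQuadFormRationalStructure Q F₀ P ∧ M = subfieldSubgroup F₀ P ⊓ isometryGroup F Q

/-- class 7, tensor powers -/
def OWreath [Fintype F] (Q : (ι → F) → F) (M : Subgroup (GL ι F)) : Prop :=
  ∃ (k t : ℕ) (e : ι ≃ (Fin t → Fin k)) (P : GL ι F) (f₁ : (Fin k → F) → (Fin k → F) → F),
    3 ≤ k ∧ 2 ≤ t ∧ ¬ (Fintype.card F = 3 ∧ k = 3) ∧ IsSymmetricForm f₁ ∧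
    IsTensorPowerFormStructure id (QuadraticMap.polar Q) f₁ e P ∧
    M = tensorWreathSubgroup k t e P ⊓ isometryGroup F Q

variable [Fintype F]

/-- the disjunction of the eight classes; for `ι = Unit ⊕ (Fin m ⊕ Fin m)`, `Q = quadFormOdd m F`, `d = 2 * m + 1` this is
`Cfsg.Geo.InOrthogonalOddClass m F M` (see `inOddClass_std`). -/
def InOddClass (d : ℕ) (Q : (ι → F) → F) (M : Subgroup (GL ι F)) : Prop :=
  OTS Q M ∨ OND Q M ∨ ODec Q M ∨ OFrame Q M ∨ OField d Q M ∨ OTensor Q M ∨ OSub Q M ∨ OWreath Q M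

/-- `H` lies in a member of one of the classes -/
def OClass (d : ℕ) (Q : (ι → F) → F) (H : Subgroup (GL ι F)) : Prop :=
  ∃ M : Subgroup (GL ι F), InOddClass d Q M ∧ H ≤ M

theorem inOddClass_std (m : ℕ) (M : Subgroup (GL (Unit ⊕ (Fin m ⊕ Fin m)) F)) :
    InOddClass (2 * m + 1) (quadFormOdd m F) M ↔ InOrthogonalOddClass m F M := Iff.rfl

section constructors

variable {d : ℕ} {Q : (ι → F) → F} {H : Subgroup (GL ι F)}

theorem oclass_of_ts (hHO : H ≤ isometryGroup F Q) (W : Submodule F (ι → F)) (h0 : W ≠ ⊥)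
    (hW : IsTotallySingularQuad Q W) (h : H ≤ subspaceStabilizer W) : OClass d Q H :=
  ⟨_, Or.inl ⟨W, h0, hW, rfl⟩, le_inf h hHO⟩

theorem oclass_of_nd (hHO : H ≤ isometryGroup F Q) (W : Submodule F (ι → F)) (h0 : W ≠ ⊥) (h1 : W ≠ ⊤)
    (hW : IsNondegenerateOn (QuadraticMap.polar Q) W) (h : H ≤ subspaceStabilizer W) : OClass d Q H :=
  ⟨_, Or.inr (Or.inl ⟨W, h0, h1, hW, rfl⟩), le_inf h hHO⟩

theorem oclass_of_dec (hHO : H ≤ isometryGroup F Q) {t k : ℕ} (D : Fin t → Submodule F (ι → F)) (hk : 1 < k)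
    (hD : IsOrthogonalMDecomposition Q k D) (h : H ≤ decompositionStabilizer D) : OClass d Q H :=
  ⟨_, Or.inr (Or.inr (Or.inl ⟨t, k, D, hk, hD, rfl⟩)), le_inf h hHO⟩

theorem oclass_of_frame (hHO : H ≤ isometryGroup F Q) {t : ℕ} (D : Fin t → Submodule F (ι → F))
    (hp : (Fintype.card F).Prime) (hD : IsOrthogonalMDecomposition Q 1 D) (h : H ≤ decompositionStabilizer D) :
    OClass d Q H :=
  ⟨_, Or.inr (Or.inr (Or.inr (Or.inl ⟨t, D, hp, hD, rfl⟩))), le_inf h hHO⟩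

theorem oclass_of_field (hHO : H ≤ isometryGroup F Q) {r : ℕ} (K : Subalgebra F (Matrix ι ι F)) (hr : r.Prime)
    (hdr : d ≠ r) (hK : IsFieldSubalgebra r K) (hsa : IsSelfAdjointFor (QuadraticMap.polar Q) K)
    (h : H ≤ subalgebraNormalizer K) : OClass d Q H :=
  ⟨_, Or.inr (Or.inr (Or.inr (Or.inr (Or.inl ⟨r, K, hr, hdr, hK, hsa, rfl⟩)))), le_inf h hHO⟩

theorem oclass_of_tensor (hHO : H ≤ isometryGroup F Q) {n₁ n₂ : ℕ} (e : ι ≃ Fin n₁ × Fin n₂) (P : GL ι F)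
    (f₁ : (Fin n₁ → F) → (Fin n₁ → F) → F) (f₂ : (Fin n₂ → F) → (Fin n₂ → F) → F) (h1 : 3 ≤ n₁) (h2 : n₁ < n₂)
    (hf₁ : IsSymmetricForm f₁) (hf₂ : IsSymmetricForm f₂)
    (hT : IsTensorFormStructure id (QuadraticMap.polar Q) f₁ f₂ e P) (h : H ≤ tensorProductSubgroup n₁ n₂ e P) :
    OClass d Q H :=
  ⟨_, Or.inr (Or.inr (Or.inr (Or.inr (Or.inr (Or.inl ⟨n₁, n₂, e, P, f₁, f₂, h1, h2, hf₁, hf₂, hT, rfl⟩))))),
    le_inf h hHO⟩

theorem oclass_of_subfield (hHO : H ≤ isometryGroup F Q) (F₀ : Subfield F) {r : ℕ} (P : GL ι F) (hr : r.Prime)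
    (hc : Fintype.card F = Nat.card F₀ ^ r) (hrat : IsQuadFormRationalStructure Q F₀ P)
    (h : H ≤ subfieldSubgroup F₀ P) : OClass d Q H :=
  ⟨_, Or.inr (Or.inr (Or.inr (Or.inr (Or.inr (Or.inr (Or.inl ⟨F₀, r, P, hr, hc, hrat, rfl⟩)))))), le_inf h hHO⟩

theorem oclass_of_wreath (hHO : H ≤ isometryGroup F Q) {k t : ℕ} (e : ι ≃ (Fin t → Fin k)) (P : GL ι F)
    (f₁ : (Fin k → F) → (Fin k → F) → F) (hk : 3 ≤ k) (ht : 2 ≤ t) (h33 : ¬ (Fintype.card F = 3 ∧ k = 3))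
    (hf₁ : IsSymmetricForm f₁) (hT : IsTensorPowerFormStructure id (QuadraticMap.polar Q) f₁ e P)
    (h : H ≤ tensorWreathSubgroup k t e P) : OClass d Q H :=
  ⟨_, Or.inr (Or.inr (Or.inr (Or.inr (Or.inr (Or.inr (Or.inr ⟨k, t, e, P, f₁, hk, ht, h33, hf₁, hT, rfl⟩)))))),
    le_inf h hHO⟩

end constructors

/-- the adjoint of the matrix `M` for the polar form of `Q` : `f (M u, v) = f (u, oadj Q M v)`
(`G⁻¹ Mᵀ G`, `G` the Gram matrix of the polar form in the standard basis). -/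
noncomputable def oadj (Q : (ι → F) → F) (M : Matrix ι ι F) : Matrix ι ι F :=
  (gramMatrix (QuadraticMap.polar Q))⁻¹ * M.transpose * gramMatrix (QuadraticMap.polar Q)

/-- An `H`-orbit of primitive idempotents of the centre `asgZ N` of the commutant of `N` (helper1's `asgclif_dec` builds one):
pairwise orthogonal, summing to `1`, permuted transitively by `H` under conjugation `asgConj h X = h X h⁻¹`, and atomic
(`atom`: every idempotent of the centre contains or annihilates each of them). -/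
structure IsIdemSystem {n : ℕ} (H N : Subgroup (GL (Fin n) F)) {t : ℕ}
    (E : Fin t → Matrix (Fin n) (Fin n) F) : Prop where
  two_le : 2 ≤ t
  inj : Function.Injective E
  mem : ∀ i, E i ∈ asgZ N
  idem : ∀ i, E i * E i = E i
  ne_zero : ∀ i, E i ≠ 0
  orth : ∀ i j, i ≠ j → E i * E j = 0
  sum : ∑ i, E i = 1
  perm : ∀ h ∈ H, ∃ σ : Equiv.Perm (Fin t), ∀ i, asgConj h (E i) = E (σ i)
  trans : ∀ i j, ∃ h ∈ H, asgConj h (E i) = E j
  atom : ∀ f ∈ asgZ N, f * f = f → ∀ i, f * E i = 0 ∨ f * E i = E i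

end Cfsg.Agent.Lib.Helper25.ASO
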