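import Mathlib
import Cfsg.Prelude.Def_GeometricClasses
import Cfsg.Agent.Lib.Helper27.ASC.Defs
import Cfsg.Agent.Lib.Helper19.ASG.Defs
import Cfsg.Agent.Lib.Helper9.ASGD2T.Defs
import Cfsg.Agent.Lib.Helper25.ASO.Defs

/-!
# Project ASO, block D2T : shared definition

`IsPtGram f e B c A` : in the tensor coordinates `(e, B)` (`e : Fin n ≃ (Fin t → Fin m)`, basis = columns of `B`) the Gram matrix of
the form `f` is `c • ptMat A` (`ptMat A` = the pure tensor `A 0 ⊗ ⋯ ⊗ A (t-1)`, `Helper9.ASGD2T.Defs`).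
-/

set_option autoImplicit false

namespace Cfsg.Agent.Lib.Helper25.ASO

open Cfsg Cfsg.Geo Cfsg.Agent.Lib.Helper27.ASC Cfsg.Agent.Lib.Helper19.ASG
open scoped MatrixGroups Matrix Kronecker

variable {n : ℕ} {F : Type*} [Field F]

/-- the Gram matrix of `f` in the tensor coordinates `(e, B)` is `c • (A 0 ⊗ ⋯ ⊗ A (t-1))` -/
def IsPtGram (f : (Fin n → F) → (Fin n → F) → F) {m t : ℕ} (e : Fin n ≃ (Fin t → Fin m)) (B : GL (Fin n) F)
    (c : F) (A : Fin t → Matrix (Fin m) (Fin m) F) : Prop :=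
  ∀ x y : (Fin t → Fin m) → F,
    f ((B : Matrix (Fin n) (Fin n) F) *ᵥ (x ∘ e)) ((B : Matrix (Fin n) (Fin n) F) *ᵥ (y ∘ e)) =
      c * ∑ a, ∑ b, x a * (∏ i, A i (a i) (b i)) * y b

end Cfsg.Agent.Lib.Helper25.ASO
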